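import Cfsg.Agent.Lib.Forms.SympBridge
import Cfsg.Agent.Lib.Forms.Symplectic

/-!
The determinant of a similitude of a nondegenerate alternating form.
-/

set_option autoImplicit false

open Matrix

namespace CfsgLib.ReflectionsSpinor.OddClass

variable {F : Type*} [Field F]

theorem det_sympTransvection [Finite F] (m : ℕ) (w : Fin m ⊕ Fin m → F) (c : F) :
    (Cfsg.sympTransvection m w c).det = 1 := by
  obtain ⟨p, _⟩ := CharP.exists F
  have hp : p.Prime := CharP.char_is_prime F p
  have : Fact p.Prime := ⟨hp⟩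
  have hpow : ∀ n : ℕ, Cfsg.sympTransvection m w c ^ n = Cfsg.sympTransvection m w (n * c) := by
    intro n
    induction n with
    | zero => simp [Cfsg.sympTransvection]
    | succ n ih => rw [pow_succ, ih, Forms.sympTransvection_mul, Nat.cast_succ, add_one_mul]
  refine frobenius_inj F p ?_
  rw [frobenius_def, frobenius_def, one_pow, ← Matrix.det_pow, hpow, CharP.cast_eq_zero, zero_mul]
  simp [Cfsg.sympTransvection]

theorem det_symplectic [Finite F] {m : ℕ} {A : Matrix (Fin m ⊕ Fin m) (Fin m ⊕ Fin m) F}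
    (hA : A ∈ Matrix.symplecticGroup (Fin m) F) : A.det = 1 := by
  have h : (⟨A, hA⟩ : Matrix.symplecticGroup (Fin m) F) ∈ (⊤ : Subgroup _) := Subgroup.mem_top _
  rw [← Forms.closure_sympTransvection m F] at h
  suffices ∀ g : Matrix.symplecticGroup (Fin m) F, g ∈ Subgroup.closure
      {A : Matrix.symplecticGroup (Fin m) F | ∃ (w : Fin m ⊕ Fin m → F) (c : F),
        (A : Matrix (Fin m ⊕ Fin m) (Fin m ⊕ Fin m) F) = Cfsg.sympTransvection m w c} →
      (g : Matrix (Fin m ⊕ Fin m) (Fin m ⊕ Fin m) F).det = 1 from this _ h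
  intro g hg
  induction hg using Subgroup.closure_induction with
  | mem x hx =>
    obtain ⟨w, c, e⟩ := hx
    rw [e, det_sympTransvection]
  | one => simp
  | mul x y _ _ hx hy => rw [Submonoid.coe_mul, Matrix.det_mul, hx, hy, one_mul]
  | inv x _ hx =>
    have := congrArg (fun B : Matrix.symplecticGroup (Fin m) F =>
      (B : Matrix (Fin m ⊕ Fin m) (Fin m ⊕ Fin m) F).det) (inv_mul_cancel x)
    simp only [Submonoid.coe_mul, Matrix.det_mul, hx, mul_one, OneMemClass.coe_one, Matrix.det_one] at this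
    exact this

/-- A similitude with multiplier `μ` of an alternating form on `2k`-space has determinant `μ ^ k`. -/
theorem det_similitude [Finite F] {V : Type*} [AddCommGroup V] [Module F V] [FiniteDimensional F V]
    (B : LinearMap.BilinForm F V) (hB : B.Nondegenerate) (hA : B.IsAlt) {k : ℕ}
    (hk : Module.finrank F V = 2 * k) (c : Module.End F V) {μ : F} (hμ : μ ≠ 0)
    (hc : ∀ u v, B (c u) (c v) = μ * B u v) : LinearMap.det c = μ ^ k := by
  obtain ⟨e, he⟩ := Forms.alt_isometric B hB hA (Omega.sympBilin k F) (Forms.sympBilin_nondeg k F)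
    (Forms.sympBilin_isAlt k F) (by rw [hk, Module.finrank_fintype_fun_eq_card]; simp; ring)
  set c' : Module.End F (Fin k ⊕ Fin k → F) := e.toLinearMap ∘ₗ c ∘ₗ e.symm.toLinearMap with hc'
  set M := LinearMap.toMatrix' c' with hM
  set D : Matrix (Fin k ⊕ Fin k) (Fin k ⊕ Fin k) F := Matrix.fromBlocks (μ⁻¹ • 1) 0 0 1 with hD
  have hcs : ∀ x y, Cfsg.sympForm k F (M *ᵥ x) (M *ᵥ y) = μ * Cfsg.sympForm k F x y := by
    intro x y
    rw [← Omega.sympBilin_apply, ← Omega.sympBilin_apply, hM, LinearMap.toMatrix'_mulVec,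
      LinearMap.toMatrix'_mulVec]
    show Omega.sympBilin k F (e (c (e.symm x))) (e (c (e.symm y))) = _
    rw [he, hc, ← he (e.symm x) (e.symm y), LinearEquiv.apply_symm_apply, LinearEquiv.apply_symm_apply]
  have hDs : ∀ x y, Cfsg.sympForm k F (D *ᵥ x) (D *ᵥ y) = μ⁻¹ * Cfsg.sympForm k F x y := by
    intro x y
    rw [Omega.sympForm_eq_sum, Omega.sympForm_eq_sum, Finset.mul_sum]
    refine Finset.sum_congr rfl fun i _ => ?_
    simp [hD, Matrix.fromBlocks_mulVec, Matrix.smul_mulVec]
    ring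
  have hMD : M * D ∈ Matrix.symplecticGroup (Fin k) F := by
    rw [Forms.mem_symplecticGroup_iff_form]
    intro x y
    rw [← Matrix.mulVec_mulVec, ← Matrix.mulVec_mulVec, hcs, hDs, mul_inv_cancel_left₀ hμ]
  have hd := det_symplectic hMD
  rw [Matrix.det_mul, hD, Matrix.det_fromBlocks_zero₂₁, Matrix.det_smul, Matrix.det_one,
    mul_one, mul_one, Fintype.card_fin, hM, LinearMap.det_toMatrix', hc', LinearMap.det_conj] at hd
  calc LinearMap.det c = LinearMap.det c * μ⁻¹ ^ k * μ ^ k := by
        rw [mul_assoc, ← mul_pow, inv_mul_cancel₀ hμ, one_pow, mul_one]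
    _ = μ ^ k := by rw [hd, one_mul]

end CfsgLib.ReflectionsSpinor.OddClass
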