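import Cfsg.Agent.Lib.ReflectionsSpinor.OddClassSpin
import Cfsg.Agent.Lib.ReflectionsSpinor.OddClassDet
import Cfsg.Agent.Lib.ReflectionsSpinor.POmegaQuot
import Cfsg.Agent.Lib.Classes.SemisimpleIsometry
import Cfsg.Agent.Lib.Classes.OmegaClasses
import Mathlib.RingTheory.UniqueFactorizationDomain.Defs

/-!
The centralizer of an isometry of odd order: every multiplier occurs with trivial sign, and both spinor signs occur.
-/

set_option autoImplicit false
set_option linter.unusedSectionVars false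

open Matrix CfsgLib.OrthGen Module Polynomial

namespace CfsgLib.ReflectionsSpinor.OddClass

open POmegaQuot

variable {F : Type*} [Field F] [Fintype F] [DecidableEq F] {ι : Type} [Fintype ι] [DecidableEq ι]
  {Q : QuadraticForm F (ι → F)}

set_option quotPrecheck false in
local notation "𝔅" => QuadraticMap.polarBilin Q

set_option quotPrecheck false in
local notation "Iso" => Cfsg.isometryGroup F (⇑Q)

theorem act_pow_fix {s : ↥Iso} {v : ι → F} (h : act Q s v = v) (n : ℕ) : act Q (s ^ n) v = v := by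
  induction n with
  | zero => rw [pow_zero, act_one]
  | succ n ih => rw [pow_succ, act_mul, h, ih]

theorem act_eq_of_sq {s : ↥Iso} {r : ℕ} (hs : s ^ r = 1) (hodd : Odd r) {v : ι → F}
    (h : act Q s (act Q s v) = v) : act Q s v = v := by
  obtain ⟨k, rfl⟩ := hodd
  have h2 : act Q (s ^ 2) v = v := by rw [pow_two, act_mul, h]
  have := congrArg (fun t => act Q t v) hs
  simp only [pow_succ' s (2 * k), act_mul, act_one, pow_mul, act_pow_fix h2 k] at this
  exact this

theorem polar_act (s : ↥Iso) (u v : ι → F) : 𝔅 (act Q s u) (act Q s v) = 𝔅 u v := by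
  rw [QuadraticMap.polarBilin_apply_apply, QuadraticMap.polarBilin_apply_apply]
  exact pf_act s u v

theorem polar_inv_left (s : ↥Iso) (u v : ι → F) : 𝔅 (act Q s⁻¹ u) v = 𝔅 u (act Q s v) := by
  rw [← polar_act s, ← act_mul, mul_inv_cancel, act_one]

theorem polar_left (s : ↥Iso) (u v : ι → F) : 𝔅 (act Q s u) v = 𝔅 u (act Q s⁻¹ v) := by
  rw [← polar_inv_left, inv_inv]

theorem act_sum {κ : Type*} (s : ↥Iso) (t : Finset κ) (f : κ → ι → F) :
    act Q s (∑ i ∈ t, f i) = ∑ i ∈ t, act Q s (f i) := Matrix.mulVec_sum _ _ _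

/-- The orbit sum of a vector. -/
theorem orbit_sum_fixed {s : ↥Iso} {r : ℕ} (hs : s ^ r = 1) (w : ι → F) :
    act Q s (∑ i ∈ Finset.range r, act Q (s ^ i) w) = ∑ i ∈ Finset.range r, act Q (s ^ i) w := by
  have e : act Q s (∑ i ∈ Finset.range r, act Q (s ^ i) w) = ∑ i ∈ Finset.range r, act Q (s ^ (i + 1)) w := by
    rw [act, Matrix.mulVec_sum]
    exact Finset.sum_congr rfl fun i _ => by rw [pow_succ', act_mul]; rfl
  have h1 := Finset.sum_range_succ' (fun i => act Q (s ^ i) w) r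
  have h2 := Finset.sum_range_succ (fun i => act Q (s ^ i) w) r
  rw [h2, hs, pow_zero] at h1
  rw [e]
  exact (add_right_cancel h1).symm

/-- The operator `s - s⁻¹`. -/
noncomputable def opA (s : ↥Iso) : Module.End F (ι → F) :=
  Matrix.toLinAlgEquiv' (Units.val s.1 : Matrix ι ι F) - Matrix.toLinAlgEquiv' (Units.val (s⁻¹).1 : Matrix ι ι F)

/-- The operator `s + s⁻¹`. -/
noncomputable def opT (s : ↥Iso) : Module.End F (ι → F) :=
  Matrix.toLinAlgEquiv' (Units.val s.1 : Matrix ι ι F) + Matrix.toLinAlgEquiv' (Units.val (s⁻¹).1 : Matrix ι ι F)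

theorem opA_apply (s : ↥Iso) (v : ι → F) : opA s v = act Q s v - act Q s⁻¹ v := rfl

theorem opT_apply (s : ↥Iso) (v : ι → F) : opT s v = act Q s v + act Q s⁻¹ v := rfl

theorem act_sub' (s : ↥Iso) (u v : ι → F) : act Q s (u - v) = act Q s u - act Q s v := Matrix.mulVec_sub _ _ _

theorem opA_eq_zero {s : ↥Iso} {r : ℕ} (hs : s ^ r = 1) (hodd : Odd r) {v : ι → F} (h : opA s v = 0) :
    act Q s v = v := by
  refine act_eq_of_sq hs hodd ?_
  rw [opA_apply, sub_eq_zero] at h
  rw [h, ← act_mul, mul_inv_cancel, act_one]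

theorem opA_sq_zero {s : ↥Iso} {r : ℕ} (hs : s ^ r = 1) (hodd : Odd r) (hr : (r : F) ≠ 0) {v : ι → F}
    (h : opA s (opA s v) = 0) : opA s v = 0 := by
  have hfix := opA_eq_zero hs hodd h
  have h1 : ∑ i ∈ Finset.range r, act Q (s ^ i) (opA s v) = 0 := by
    simp only [opA_apply, act_sub', ← act_mul, Finset.sum_sub_distrib]
    have e1 := orbit_sum_fixed hs (act Q s v)
    have e2 := orbit_sum_fixed hs (act Q s⁻¹ v)
    have hshift : ∀ w, ∑ i ∈ Finset.range r, act Q (s ^ i) (act Q s w) = ∑ i ∈ Finset.range r, act Q (s ^ i) w := by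
      intro w
      rw [← orbit_sum_fixed hs w, act_sum]
      refine Finset.sum_congr rfl fun i _ => ?_
      show act Q (s ^ i) (act Q s w) = act Q s (act Q (s ^ i) w)
      rw [← act_mul, ← act_mul, (Commute.self_pow s i).eq]
    simp only [act_mul]
    rw [hshift v]
    conv_lhs => arg 1; rw [show v = act Q s (act Q s⁻¹ v) by rw [← act_mul, mul_inv_cancel, act_one]]
    rw [hshift, sub_self]
  rw [Finset.sum_congr rfl (fun i _ => act_pow_fix hfix i), Finset.sum_const, Finset.card_range,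
    ← Nat.cast_smul_eq_nsmul F] at h1
  exact (smul_eq_zero.1 h1).resolve_left hr

theorem split_op (s : ↥Iso) : Split Q (opT s) (opA s) := by
  have hS : ∀ v, act Q s (act Q s⁻¹ v) = v := fun v => by rw [← act_mul, mul_inv_cancel, act_one]
  have hS' : ∀ v, act Q s⁻¹ (act Q s v) = v := fun v => by rw [← act_mul, inv_mul_cancel, act_one]
  refine ⟨fun u v => ?_, fun u v => ?_, fun v => ?_, fun v => ?_⟩
  · rw [opT_apply, opT_apply, map_add, LinearMap.add_apply, map_add, polar_inv_left, polar_left, add_comm]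
  · rw [opA_apply, opA_apply, map_sub, LinearMap.sub_apply, map_sub, polar_inv_left, polar_left, neg_sub]
  · simp only [opA_apply, opT_apply, act_add, act_sub', hS, hS']
    abel
  · simp only [opA_apply, opT_apply, act_add, act_sub', hS, hS']
    rw [show (4 : F) = 1 + 1 + 1 + 1 by norm_num, add_smul, add_smul, add_smul, one_smul]
    abel

/-- The kernel of a polynomial in `T` is nondegenerate. -/
theorem ker_poly_nondeg (E : Even2 Q) {s : ↥Iso} {r : ℕ} (hs : s ^ r = 1) (hr : (r : F) ≠ 0) (f : F[X])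
    {w : ι → F} (hw : aeval (opT s) f w = 0) (hw0 : w ≠ 0) :
    ∃ y, aeval (opT s) f y = 0 ∧ 𝔅 w y ≠ 0 := by
  classical
  set T := opT s with hT
  set a := aeval T f with ha
  have : Finite (Module.End F (ι → F)) := Finite.of_injective _ DFunLike.coe_injective
  obtain ⟨n, hn, hidem⟩ := Classes.SemiConj.exists_pow_idem a
  set P := a ^ n with hP
  have hr0 : r ≠ 0 := fun h => hr (by rw [h, Nat.cast_zero])
  set S : Module.End F (ι → F) := Matrix.toLinAlgEquiv' (Units.val s.1 : Matrix ι ι F) with hSdef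
  have hSr : S ^ r = 1 := by
    rw [hSdef, ← map_pow, ← Units.val_pow_eq_pow_val, ← SubgroupClass.coe_pow, hs, OneMemClass.coe_one,
      Units.val_one, map_one]
  have hTS : aeval S (X + X ^ (r - 1) : F[X]) = T := by
    have hi : s⁻¹ = s ^ (r - 1) :=
      inv_eq_of_mul_eq_one_left (by rw [← pow_succ, Nat.sub_add_cancel (Nat.pos_of_ne_zero hr0), hs])
    rw [map_add, aeval_X, map_pow, aeval_X, hSdef, hT, opT, hi, SubgroupClass.coe_pow,
      Units.val_pow_eq_pow_val, map_pow]
  have haS : aeval S ((f.comp (X + X ^ (r - 1))) * (1 - (f.comp (X + X ^ (r - 1))) ^ n)) = a * (1 - P) := by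
    simp only [map_mul, map_sub, map_one, map_pow, Polynomial.aeval_comp, hTS, ← ha, hP]
  have hz : a * (1 - P) = 0 := by
    rw [← haS]
    refine Classes.SemiConj.aeval_eq_zero_of_isNilpotent hr hSr _ ⟨n, ?_⟩
    rw [haS, (Commute.one_right a).sub_right ((Commute.refl a).pow_right n) |>.mul_pow, ← hP]
    have h1 : (1 - P) ^ n = 1 - P := by
      have : IsIdempotentElem (1 - P) := hidem.one_sub
      exact this.pow_eq hn.ne'
    rw [h1, mul_sub, mul_one, hidem.eq, sub_self]
  have hPw : P w = 0 := by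
    obtain ⟨k, rfl⟩ : ∃ k, n = k + 1 := ⟨n - 1, by omega⟩
    rw [hP, pow_succ, Module.End.mul_apply, hw, map_zero]
  obtain ⟨y0, hy0⟩ : ∃ y, 𝔅 w y ≠ 0 := by
    by_contra hne
    push Not at hne
    exact hw0 (E.nondeg.1 w hne)
  refine ⟨(1 - P) y0, LinearMap.congr_fun hz y0, ?_⟩
  have hPsa : 𝔅 w (P y0) = 𝔅 (P w) y0 := by
    rw [hP, ha, ← map_pow]
    exact ((split_op s).sa_poly _ _ _).symm
  rw [LinearMap.sub_apply, Module.End.one_apply, map_sub, hPsa, hPw, map_zero, LinearMap.zero_apply, sub_zero]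
  exact hy0

/-- An isometry of odd order commutes with an isometry of determinant one and nontrivial spinor sign. -/
theorem exists_cent_spin (E : Even2 Q) {s : ↥Iso} {r : ℕ} (hs : s ^ r = 1) (hodd : Odd r) (hr : (r : F) ≠ 0)
    (hs1 : s ≠ 1) :
    ∃ e : ↥Iso, Classes.detHom Q e = 1 ∧ spinSign Q 1 e = -1 ∧ Commute e s := by
  classical
  set T := opT s with hT
  set A := opA s with hA
  have S := split_op s
  have hA0 : ∃ w, A w ≠ 0 := by
    by_contra hne
    push Not at hne
    exact hs1 (ext_act fun v => by rw [act_one, opA_eq_zero hs hodd (hne v)])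
  obtain ⟨w1, hw1⟩ := hA0
  have hAcomm : ∀ p : F[X], ∀ x, A (aeval T p x) = aeval T p (A x) := S.comm_poly
  obtain ⟨f, w, hf, hwA, hw0, hwf⟩ : ∃ (f : F[X]) (w : ι → F), Irreducible f ∧ (∃ u, A u = w) ∧ w ≠ 0 ∧
      aeval T f w = 0 := by
    suffices key : ∀ p : F[X], p ≠ 0 → ∀ w : ι → F, (∃ u, A u = w) → w ≠ 0 → aeval T p w = 0 →
        ∃ (f : F[X]) (w : ι → F), Irreducible f ∧ (∃ u, A u = w) ∧ w ≠ 0 ∧ aeval T f w = 0 from
      key (minpoly F T) (minpoly.ne_zero (Algebra.IsIntegral.isIntegral T)) (A w1) ⟨w1, rfl⟩ hw1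
        (by rw [minpoly.aeval]; rfl)
    intro p
    induction p using WfDvdMonoid.induction_on_irreducible with
    | zero => exact fun h => absurd rfl h
    | unit u hu =>
      intro _ w _ hw0 hw
      obtain ⟨c, hc, rfl⟩ := Polynomial.isUnit_iff.1 hu
      rw [aeval_C, Module.algebraMap_end_apply] at hw
      exact absurd ((smul_eq_zero.1 hw).resolve_left hc.ne_zero) hw0
    | mul a i ha0 hi ih =>
      intro _ w hwA hw0 hw
      by_cases haw : aeval T a w = 0
      · exact ih ha0 w hwA hw0 haw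
      · obtain ⟨u, rfl⟩ := hwA
        refine ⟨i, aeval T a (A u), hi, ⟨aeval T a u, hAcomm a u⟩, haw, ?_⟩
        rw [← Module.End.mul_apply, ← map_mul]
        exact hw
  set D : F[X] := X ^ 2 - Polynomial.C 4 with hD
  have hDv : ∀ x, aeval T D x = A (A x) := fun x => by
    rw [S.sq, hD, map_sub, aeval_C, map_pow, aeval_X, LinearMap.sub_apply, pow_two]
    rfl
  obtain ⟨cf, cD, hcop⟩ : IsCoprime f D := by
    refine hf.coprime_iff_not_dvd.2 fun ⟨q, hq⟩ => hw0 ?_
    obtain ⟨u, rfl⟩ := hwA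
    refine opA_sq_zero hs hodd hr (v := u) (opA_sq_zero hs hodd hr ?_)
    rw [← hA, ← hDv, hq, mul_comm, map_mul, Module.End.mul_apply, hwf, map_zero]
  obtain ⟨v, hv, hQv⟩ : ∃ v, aeval T f v = 0 ∧ Q v ≠ 0 := by
    obtain ⟨y, hy, hwy⟩ := ker_poly_nondeg E hs hr f hwf hw0
    by_contra hne
    push Not at hne
    apply hwy
    rw [QuadraticMap.polarBilin_apply_apply, QuadraticMap.polar, hne _ (by rw [map_add, hwf, hy, add_zero]),
      hne w hwf, hne y hy, sub_zero, sub_zero]
  have hker : ∀ x ∈ cyc T v, aeval T f x = 0 := fun x hx => by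
    obtain ⟨p, rfl⟩ := mem_cyc.1 hx
    rw [← Module.End.mul_apply, ← map_mul, mul_comm, map_mul, Module.End.mul_apply, hv, map_zero]
  have hirr : ∀ x ∈ cyc T v, x ≠ 0 → v ∈ cyc T x := by
    intro x hx hx0
    obtain ⟨p, rfl⟩ := mem_cyc.1 hx
    obtain ⟨a, b, hab⟩ : IsCoprime f p := by
      refine hf.coprime_iff_not_dvd.2 fun ⟨q, hq⟩ => hx0 ?_
      rw [hq, mul_comm, map_mul, Module.End.mul_apply, hv, map_zero]
    refine mem_cyc.2 ⟨b, ?_⟩
    have := LinearMap.congr_fun (congrArg (aeval T) hab) v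
    simpa [hv] using this
  have hAinj : ∀ x ∈ cyc T v, A (A x) = 0 → x = 0 := by
    intro x hx hxA
    have := LinearMap.congr_fun (congrArg (aeval T) hcop) x
    simpa [hker x hx, hDv, hxA] using this.symm
  have hU : (LinearMap.BilinForm.restrict 𝔅 (cyc T v)).Nondegenerate := by
    have key : ∀ x ∈ cyc T v, (∀ y ∈ cyc T v, 𝔅 x y = 0) → x = 0 := by
      intro x hx hxy
      by_contra hx0
      obtain ⟨b, hb⟩ := mem_cyc.1 (hirr x hx hx0)
      have := hxy (aeval T b v) (mem_cyc.2 ⟨b, rfl⟩)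
      rw [← S.sa_poly, hb, polar_self'] at this
      exact hQv ((mul_eq_zero.1 this).resolve_left E.two)
    exact ⟨fun x hx => Subtype.ext (key x x.2 fun y hy => hx ⟨y, hy⟩),
      fun x hx => Subtype.ext (key x x.2 fun y hy => (polar_symm _ _).trans (hx ⟨y, hy⟩))⟩
  obtain ⟨e, he1, he2, heT, heA⟩ := S.exists_comm_spin E.two hAinj (fun h => hQv (by rw [h, QuadraticMap.map_zero]))
    hirr hU
  refine ⟨e, he1, he2, ext_act fun x => ?_⟩
  have h1 := congrArg₂ (· + ·) (heT x) (heA x)
  simp only [hT, hA, opT_apply, opA_apply, act_add, act_sub'] at h1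
  rw [act_mul, act_mul]
  funext i
  have h2 := congrFun h1 i
  simp only [Pi.add_apply, Pi.sub_apply] at h2
  exact mul_left_cancel₀ E.two (by linear_combination h2)

/-- A fixed anisotropic vector of an isometry of order prime to the characteristic with a fixed vector. -/
theorem exists_fixed_aniso (E : Even2 Q) {s : ↥Iso} {r : ℕ} (hs : s ^ r = 1) (hr : (r : F) ≠ 0) {u : ι → F}
    (hu : act Q s u = u) (hu0 : u ≠ 0) : ∃ v, act Q s v = v ∧ Q v ≠ 0 := by
  by_contra hne
  push Not at hne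
  obtain ⟨y, hy⟩ : ∃ y, 𝔅 u y ≠ 0 := by
    by_contra h
    push Not at h
    exact hu0 (E.nondeg.1 u h)
  set w := ∑ i ∈ Finset.range r, act Q (s ^ i) y
  have hw := orbit_sum_fixed hs y
  have h1 : 𝔅 u w = 0 := by
    rw [QuadraticMap.polarBilin_apply_apply, QuadraticMap.polar, hne _ (by rw [act_add, hu, hw]), hne u hu,
      hne w hw, sub_zero, sub_zero]
  rw [map_sum, Finset.sum_congr rfl (fun i _ => show 𝔅 u (act Q (s ^ i) y) = 𝔅 u y by
      conv_lhs => rw [← act_pow_fix hu i, polar_act]), Finset.sum_const, Finset.card_range,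
    nsmul_eq_mul] at h1
  exact hy ((mul_eq_zero.1 h1).resolve_left hr)

/-- An isometry of odd order commutes with similarities of every multiplier that occurs, of trivial sign. -/
theorem exists_cent_sim (E : Even2 Q) {s : ↥Iso} {r : ℕ} (hs : s ^ r = 1) (hodd : Odd r) (hr : (r : F) ≠ 0)
    (g : ↥(Cfsg.Geo.quadSimilarityGroup (F := F) (⇑Q))) :
    ∃ c, Commute c (isoSim s) ∧ mult E c = mult E g ∧ delta E c = 1 := by
  classical
  set s' := g * isoSim s * g⁻¹ with hs'
  have hm' : mult E s' = 1 := by rw [hs', map_mul, map_mul, map_inv, mult_isoSim, mul_one, mul_inv_cancel]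
  have hs'r : s' ^ r = 1 := by rw [hs', conj_pow, ← map_pow, hs, map_one, mul_one, mul_inv_cancel]
  let X : (ι → F) ≃ₗ[F] (ι → F) := LinearEquiv.ofLinearMap
    (Matrix.toLinAlgEquiv' (Units.val g.1 : Matrix ι ι F)) (Matrix.toLinAlgEquiv' (Units.val (g⁻¹).1 : Matrix ι ι F))
    (by rw [← Module.End.mul_eq_comp, ← map_mul, ← Units.val_mul, ← Subgroup.coe_mul, mul_inv_cancel]
        exact map_one _)
    (by rw [← Module.End.mul_eq_comp, ← map_mul, ← Units.val_mul, ← Subgroup.coe_mul, inv_mul_cancel]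
        exact map_one _)
  obtain ⟨h, hhQ, hh⟩ := Classes.SemiConj.exists_quad_conj E.nondeg hr hodd
    (A := Matrix.toLinAlgEquiv' (Units.val s.1 : Matrix ι ι F))
    (A' := Matrix.toLinAlgEquiv' (Units.val s'.1 : Matrix ι ι F))
    (by rw [← map_pow, ← Units.val_pow_eq_pow_val, ← SubgroupClass.coe_pow, hs]; exact map_one _)
    (by rw [← map_pow, ← Units.val_pow_eq_pow_val, ← SubgroupClass.coe_pow, hs'r]; exact map_one _)
    (fun v => s.2 v v)
    (fun v => (mult_spec E s' v).trans (by rw [hm', Units.val_one, one_mul]))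
    X (fun v => by
      show (Units.val g.1 : Matrix ι ι F) *ᵥ ((Units.val s.1 : Matrix ι ι F) *ᵥ v) =
        (Units.val s'.1 : Matrix ι ι F) *ᵥ ((Units.val g.1 : Matrix ι ι F) *ᵥ v)
      rw [Matrix.mulVec_mulVec, Matrix.mulVec_mulVec, ← Units.val_mul, ← Units.val_mul,
        show s'.1 * g.1 = g.1 * s.1 from inv_mul_cancel_right (g.1 * s.1) g.1])
  set hI := Classes.isoOfEquiv h hhQ with hI'
  have hcomm : s' * isoSim hI = isoSim hI * isoSim s := by
    refine Subtype.ext (Units.ext (Matrix.toLin'.injective (LinearMap.ext fun v => ?_)))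
    simp only [Subgroup.coe_mul, Units.val_mul, Matrix.toLin'_mul, LinearMap.comp_apply, Matrix.toLin'_apply]
    show (Units.val s'.1 : Matrix ι ι F) *ᵥ act Q hI v = act Q hI (act Q s v)
    rw [Classes.act_isoOfEquiv, Classes.act_isoOfEquiv]
    exact (hh v).symm
  set c₀ := (isoSim hI)⁻¹ * g with hc₀
  have hc₀c : Commute c₀ (isoSim s) := by
    show (isoSim hI)⁻¹ * g * isoSim s = isoSim s * ((isoSim hI)⁻¹ * g)
    rw [← mul_assoc (isoSim s), mul_assoc, show g * isoSim s = s' * g from (inv_mul_cancel_right _ _).symm,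
      ← mul_assoc]
    congr 1
    rw [inv_mul_eq_iff_eq_mul, ← mul_assoc, eq_mul_inv_iff_mul_eq]
    exact hcomm
  have hc₀m : mult E c₀ = mult E g := by rw [hc₀, map_mul, map_inv, mult_isoSim, inv_one, one_mul]
  by_cases hfix : ∃ u, act Q s u = u ∧ u ≠ 0
  · obtain ⟨u, hu, hu0⟩ := hfix
    obtain ⟨v, hv, hQv⟩ := exists_fixed_aniso E hs hr hu hu0
    have hR : Commute (refl Q hQv) s := ext_act fun x => by
      rw [act_mul, act_mul, act_refl, act_refl, act_sub, act_smul, hv,
        show pf Q v (act Q s x) = pf Q v x by conv_lhs => rw [← hv, pf_act]]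
    rcases Int.units_eq_one_or (delta E c₀) with hd | hd
    · exact ⟨c₀, hc₀c, hc₀m, hd⟩
    · exact ⟨c₀ * isoSim (refl Q hQv), hc₀c.mul_left (hR.map isoSim),
        by rw [map_mul, mult_isoSim, mul_one, hc₀m], by rw [map_mul, hd, delta_refl]; rfl⟩
  · push Not at hfix
    refine ⟨c₀, hc₀c, hc₀m, (delta_eq_one_iff E c₀).2 ?_⟩
    set b : LinearMap.BilinForm F (ι → F) := (QuadraticMap.polarBilin Q).comp (opA s) with hb
    have hbv : ∀ u w, b u w = 𝔅 (opA s u) w := fun u w => rfl
    have hbalt : b.IsAlt := fun u => by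
      rw [hbv, opA_apply, map_sub, LinearMap.sub_apply, polar_inv_left, polar_symm, sub_self]
    have hbl : ∀ u, (∀ w, b u w = 0) → u = 0 := fun u hu =>
      hfix u (opA_eq_zero hs hodd (E.nondeg.1 _ hu))
    have hbnd : b.Nondegenerate :=
      ⟨hbl, fun w hw => hbl w fun u => by rw [← LinearMap.IsAlt.neg hbalt, hw, neg_zero]⟩
    have hk : finrank F (ι → F) = 2 * (Fintype.card ι / 2) := by
      rw [Module.finrank_fintype_fun_eq_card, Nat.mul_div_cancel' E.even.two_dvd]
    have hcs : ∀ (t : ↥Iso), Commute c₀ (isoSim t) → ∀ x, (Units.val c₀.1 : Matrix ι ι F) *ᵥ act Q t x =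
        act Q t ((Units.val c₀.1 : Matrix ι ι F) *ᵥ x) := fun t ht x => by
      show _ *ᵥ ((Units.val t.1 : Matrix ι ι F) *ᵥ x) = (Units.val t.1 : Matrix ι ι F) *ᵥ _
      rw [Matrix.mulVec_mulVec, Matrix.mulVec_mulVec, ← Units.val_mul, ← Units.val_mul]
      exact congrArg (fun y : ↥(Cfsg.Geo.quadSimilarityGroup (F := F) (⇑Q)) =>
        (Units.val y.1 : Matrix ι ι F) *ᵥ x) ht.eq
    have hd := det_similitude b hbnd hbalt hk (Matrix.toLin' (Units.val c₀.1 : Matrix ι ι F)) (mult E c₀).ne_zero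
      (fun u w => by
        rw [hbv, hbv, Matrix.toLin'_apply, Matrix.toLin'_apply, opA_apply, ← hcs s hc₀c,
          ← hcs s⁻¹ (by rw [map_inv]; exact hc₀c.inv_right), ← Matrix.mulVec_sub, ← opA_apply,
          QuadraticMap.polarBilin_apply_apply, QuadraticMap.polarBilin_apply_apply]
        simp only [QuadraticMap.polar, ← Matrix.mulVec_add, mult_spec E]
        ring)
    rwa [LinearMap.det_toLin'] at hd

end CfsgLib.ReflectionsSpinor.OddClass
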