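import Cfsg.Agent.Lib.Classes.OmegaOdd
import Cfsg.Agent.Lib.Parabolic.OrthSpinor

/-!
The involution which is `-1` on a nondegenerate subspace and `1` on its orthogonal complement, with its
spinor sign.
-/

set_option autoImplicit false
set_option linter.unusedSectionVars false

open Matrix CfsgLib.OrthGen Module

namespace CfsgLib.ReflectionsSpinor.OddClass

variable {F : Type*} [Field F] {ι : Type} [Fintype ι] [DecidableEq ι] {Q : QuadraticForm F (ι → F)}

theorem polar_self' (v : ι → F) : QuadraticMap.polarBilin Q v v = 2 * Q v := by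
  simp [QuadraticMap.polarBilin_apply_apply, QuadraticMap.polar_self, two_smul, two_mul]

theorem polar_symm (u v : ι → F) : QuadraticMap.polarBilin Q u v = QuadraticMap.polarBilin Q v u := by
  simp [QuadraticMap.polarBilin_apply_apply, QuadraticMap.polar_comm]

theorem act_prod_refl : ∀ (L : List {v : ι → F // Q v ≠ 0}),
    (∀ y, (∀ v ∈ L, QuadraticMap.polarBilin Q v.1 y = 0) →
      act Q (L.map fun v => refl Q v.2).prod y = y) ∧
    (L.Pairwise (fun v w => QuadraticMap.polarBilin Q v.1 w.1 = 0) →
      ∀ v ∈ L, act Q (L.map fun v => refl Q v.2).prod v.1 = -v.1) := by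
  intro L
  induction L with
  | nil => exact ⟨fun y _ => act_one y, fun _ v hv => by simp at hv⟩
  | cons w L ih =>
    have hfix : ∀ y, QuadraticMap.polarBilin Q w.1 y = 0 → act Q (refl Q w.2) y = y := fun y hy => by
      rw [act_refl, pf]
      rw [QuadraticMap.polarBilin_apply_apply] at hy
      rw [hy, mul_zero, zero_smul, sub_zero]
    refine ⟨fun y hy => ?_, fun hp v hv => ?_⟩
    · rw [List.map_cons, List.prod_cons, act_mul, ih.1 y fun v hv => hy v (List.mem_cons_of_mem _ hv)]
      exact hfix y (hy w (by simp))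
    · rw [List.pairwise_cons] at hp
      rw [List.map_cons, List.prod_cons, act_mul]
      rcases List.mem_cons.1 hv with rfl | hv
      · rw [ih.1 v.1 fun u hu => (polar_symm _ _).trans (hp.1 u hu), act_refl_self]
      · rw [ih.2 hp.2 v hv, hfix (-v.1) (by rw [map_neg, hp.1 v hv, neg_zero])]

theorem det_prod_refl : ∀ (L : List {v : ι → F // Q v ≠ 0}),
    Classes.detHom Q (L.map fun v => refl Q v.2).prod = (-1) ^ L.length := by
  intro L
  induction L with
  | nil => simp
  | cons w L ih => rw [List.map_cons, List.prod_cons, map_mul, ih, Classes.detHom_refl, List.length_cons, pow_succ']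

variable [Fintype F] [DecidableEq F]

theorem spin_refl_char (h2 : (2 : F) ≠ 0) {v : ι → F} (hv : Q v ≠ 0) :
    ((spinSign Q 1 (refl Q hv) : ℤˣ) : ℤ) = -quadraticChar F (Q v) := by
  by_cases hs : IsSquare (Q v)
  · rw [(quadraticChar_one_iff_isSquare hv).2 hs,
      (spinSign_refl h2 one_ne_zero hv).2 (by rw [one_div]; exact isSquare_inv.2 hs)]
    rfl
  · rw [quadraticChar_neg_one_iff_not_isSquare.2 hs,
      (spinSign_refl' h2 one_ne_zero hv).2 (by rw [one_div]; exact fun h => hs (isSquare_inv.1 h))]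
    rfl

theorem spin_prod_refl (h2 : (2 : F) ≠ 0) : ∀ (L : List {v : ι → F // Q v ≠ 0}),
    ((spinSign Q 1 (L.map fun v => refl Q v.2).prod : ℤˣ) : ℤ) =
      (-1) ^ L.length * quadraticChar F (L.map fun v => Q v.1).prod := by
  intro L
  induction L with
  | nil => simp
  | cons w L ih =>
    rw [List.map_cons, List.prod_cons, map_mul, Units.val_mul, ih, spin_refl_char h2 w.2, List.length_cons,
      List.map_cons, List.prod_cons, map_mul, pow_succ']
    ring

/-- The flip on a nondegenerate subspace. -/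
theorem exists_flip (h2 : (2 : F) ≠ 0) (U : Submodule F (ι → F))
    (hU : (LinearMap.BilinForm.restrict (QuadraticMap.polarBilin Q) U).Nondegenerate) :
    ∃ (h : Cfsg.isometryGroup F (⇑Q)) (f : Basis (Fin (finrank F U)) F U),
      (∀ i, Q (f i : ι → F) ≠ 0) ∧
      (∀ i j, i ≠ j → QuadraticMap.polarBilin Q (f i : ι → F) (f j : ι → F) = 0) ∧
      (∀ x ∈ U, act Q h x = -x) ∧
      (∀ y, (∀ x ∈ U, QuadraticMap.polarBilin Q x y = 0) → act Q h y = y) ∧
      Classes.detHom Q h = (-1) ^ finrank F U ∧
      ((spinSign Q 1 h : ℤˣ) : ℤ) = (-1) ^ finrank F U * quadraticChar F (∏ i, Q (f i : ι → F)) := by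
  have : Invertible (2 : F) := invertibleOfNonzero h2
  obtain ⟨f, hf⟩ := LinearMap.BilinForm.exists_orthogonal_basis
    (B := LinearMap.BilinForm.restrict (QuadraticMap.polarBilin Q) U) ⟨fun x y => polar_symm _ _⟩
  have horth : ∀ i j, i ≠ j → QuadraticMap.polarBilin Q (f i : ι → F) (f j : ι → F) = 0 := fun i j hij => hf hij
  have hne : ∀ i, Q (f i : ι → F) ≠ 0 := by
    intro i hi
    have hz : f i = 0 := by
      refine hU.1 (f i) fun y => ?_
      rw [← f.sum_repr y, map_sum]
      refine Finset.sum_eq_zero fun j _ => ?_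
      rw [map_smul]
      show _ • QuadraticMap.polarBilin Q (f i : ι → F) (f j : ι → F) = 0
      by_cases hij : i = j
      · subst hij
        rw [polar_self', hi, mul_zero, smul_zero]
      · rw [horth i j hij, smul_zero]
    exact f.ne_zero i hz
  set L : List {v : ι → F // Q v ≠ 0} := List.ofFn fun i => ⟨(f i : ι → F), hne i⟩ with hL
  refine ⟨(L.map fun v => refl Q v.2).prod, f, hne, horth, ?_, ?_, ?_, ?_⟩
  · have hbasis : ∀ i, act Q (L.map fun v => refl Q v.2).prod (f i : ι → F) = -(f i : ι → F) := fun i =>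
      (act_prod_refl L).2 (by rw [hL, List.pairwise_ofFn]; exact fun i j hij => horth i j hij.ne)
        ⟨_, hne i⟩ (by rw [hL, List.mem_ofFn]; exact ⟨i, rfl⟩)
    intro x hx
    have hx' := congrArg Subtype.val (f.sum_repr ⟨x, hx⟩)
    rw [AddSubmonoidClass.coe_finsetSum] at hx'
    simp only [SetLike.val_smul] at hx'
    rw [← hx', act, Matrix.mulVec_sum, ← Finset.sum_neg_distrib]
    refine Finset.sum_congr rfl fun i _ => ?_
    rw [Matrix.mulVec_smul, ← smul_neg]
    exact congrArg _ (hbasis i)
  · intro y hy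
    refine (act_prod_refl L).1 y fun v hv => ?_
    rw [hL, List.mem_ofFn] at hv
    obtain ⟨i, rfl⟩ := hv
    exact hy _ (f i).2
  · rw [det_prod_refl, hL, List.length_ofFn]
  · rw [spin_prod_refl h2, hL, List.length_ofFn, List.map_ofFn, List.prod_ofFn]
    rfl

end CfsgLib.ReflectionsSpinor.OddClass
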