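import Cfsg.Agent.Lib.ReflectionsSpinor.OddClassCent
import Cfsg.Agent.Lib.ReflectionsSpinor.POmegaQuotThms

/-!
Classes of automorphisms of odd prime order induced by similarities, odd characteristic, even dimension.
-/

set_option autoImplicit false
set_option linter.unusedSectionVars false

open Matrix CfsgLib.OrthGen

namespace CfsgLib.ReflectionsSpinor.OddClass

open POmegaAut POmegaQuot

variable {F : Type*} [Field F] [Fintype F] [DecidableEq F] {ι : Type} [Fintype ι] [DecidableEq ι]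
  {Q : QuadraticForm F (ι → F)}

set_option quotPrecheck false in
local notation "Sim" => Cfsg.Geo.quadSimilarityGroup (F := F) (⇑Q)

theorem negOne_sq : (negOne (Q := Q)) * negOne = 1 :=
  Subtype.ext (Units.ext (by show (-1 : Matrix ι ι F) * (-1) = 1; rw [neg_mul_neg, one_mul]))

/-- An automorphism of odd order induced by a similarity is induced by an isometry of the same order. -/
theorem exists_lift (E : Even2 Q) {x : MulAut (Cfsg.POmega F (⇑Q))} (hx : x ∈ Cfsg.pgoAut F (⇑Q)) {r : ℕ}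
    (hodd : Odd r) (hxr : x ^ r = 1) :
    ∃ s : ↥(Cfsg.isometryGroup F (⇑Q)), s ^ r = 1 ∧ simAut (⇑Q) (isoSim s) = x := by
  obtain ⟨g, rfl⟩ := mem_pgoAut_iff.1 hx
  obtain ⟨k, hk⟩ := hodd
  rw [← map_pow] at hxr
  obtain ⟨l, hl, hm⟩ := (simAut_eq_one_iff E.good _).1 hxr
  have he : g ^ r = scalarSim (Units.mk0 l hl) :=
    Subtype.ext (Units.ext (hm.trans (coe_scalarGL (Units.mk0 l hl)).symm))
  have hμ : (mult E g : F) ^ r = l * l := by
    rw [← Units.val_pow_eq_pow_val, ← map_pow, he, mult_scalar]; rfl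
  have hsq : multSign E g = 1 := by
    rw [multSign_eq_one_iff]
    refine ⟨l / (mult E g : F) ^ k, ?_⟩
    rw [div_mul_div_comm, ← hμ, hk, ← pow_add, ← two_mul, pow_succ',
      mul_div_assoc, div_self (pow_ne_zero _ (mult E g).ne_zero), mul_one]
  obtain ⟨a, h, rfl⟩ := exists_eq_scalar_mul E g hsq
  rw [map_pow, map_mul, simAut_scalar E, one_mul, ← map_pow, ← map_pow] at hxr
  have hh : h ^ r = 1 ∨ h ^ r = negOne := by
    rcases (simAut_isoSim_eq_iff E 1 (h ^ r)).1 (by rw [hxr, map_one, map_one]) with e | e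
    · exact Or.inl e
    · exact Or.inr (by rwa [mul_one] at e)
  have hsq' : h ^ r * h ^ r = 1 := by
    rcases hh with e | e <;> rw [e]
    · rw [mul_one]
    · exact negOne_sq
  refine ⟨h ^ (r + 1), ?_, ?_⟩
  · rw [← pow_mul, show (r + 1) * r = (r + r) * (k + 1) by rw [hk]; ring, pow_mul,
      show h ^ (r + r) = 1 by rw [pow_add, hsq'], one_pow]
  · rw [map_mul, simAut_scalar E, one_mul, pow_succ, map_mul, map_mul, hxr, one_mul]

/-- Conjugating by a similarity of trivial sign is conjugating by an element of `PΩ`. -/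
theorem exists_inn_conj (E : Even2 Q) {s : ↥(Cfsg.isometryGroup F (⇑Q))} {r : ℕ} (hs : s ^ r = 1)
    (hodd : Odd r) (hr : (r : F) ≠ 0) (hs1 : s ≠ 1) (g : ↥Sim) (hg : delta E g = 1) :
    ∃ w ∈ Cfsg.Inn (Cfsg.POmega F (⇑Q)),
      simAut (⇑Q) g * simAut (⇑Q) (isoSim s) * (simAut (⇑Q) g)⁻¹ = w * simAut (⇑Q) (isoSim s) * w⁻¹ := by
  obtain ⟨c, hc, hcm, hcd⟩ := exists_cent_sim E hs hodd hr g
  have hsq : phi E (g * c⁻¹) = 1 := by
    refine Prod.ext ?_ ?_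
    · show multSign E (g * c⁻¹) = 1
      rw [multSign_eq_one_iff, map_mul, map_inv, hcm, mul_inv_cancel, Units.val_one]
      exact IsSquare.one
    · show delta E (g * c⁻¹) = 1
      rw [map_mul, map_inv, hg, hcd, inv_one, one_mul]
  obtain ⟨t, ht, hte⟩ := (phi_eq_one_iff E _).1 hsq
  obtain ⟨h, hh, hd⟩ := (mem_SO_iff t.1).1 ht
  obtain rfl : isoSim h = t := Subtype.ext hh
  obtain ⟨e, he1, he2, hec⟩ := exists_cent_spin E hs hodd hr hs1
  obtain ⟨z, hz, hzs⟩ : ∃ z : ↥(Cfsg.isometryGroup F (⇑Q)), Commute z s ∧ h * z ∈ Cfsg.Omega F (⇑Q) := by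
    rcases Int.units_eq_one_or (spinSign Q 1 h) with hsp | hsp
    · exact ⟨1, Commute.one_left s, by
        rw [mul_one, Classes.mem_omega_iff E.two E.nondeg E.two_le]; exact ⟨hd, hsp⟩⟩
    · exact ⟨e, hec, by
        rw [Classes.mem_omega_iff E.two E.nondeg E.two_le, map_mul, map_mul, hd, he1, hsp, he2, one_mul]
        exact ⟨rfl, by decide⟩⟩
  refine ⟨simAut (⇑Q) (omegaSim (⇑Q) ⟨h * z, hzs⟩), by rw [inn_eq]; exact ⟨_, ⟨_, rfl⟩, rfl⟩, ?_⟩
  have h1 : omegaSim (⇑Q) ⟨h * z, hzs⟩ = isoSim h * isoSim z := rfl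
  rw [h1, map_mul, hte, map_mul, map_inv]
  have hcs : simAut (⇑Q) c * simAut (⇑Q) (isoSim s) = simAut (⇑Q) (isoSim s) * simAut (⇑Q) c := (hc.map _).eq
  have hzs' : simAut (⇑Q) (isoSim z) * simAut (⇑Q) (isoSim s) =
      simAut (⇑Q) (isoSim s) * simAut (⇑Q) (isoSim z) := ((hz.map isoSim).map _).eq
  generalize simAut (⇑Q) (isoSim s) = S at hcs hzs' ⊢
  generalize simAut (⇑Q) (isoSim z) = Z at hzs' ⊢
  generalize simAut (⇑Q) c = C at hcs ⊢
  generalize simAut (⇑Q) g = G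
  calc G * S * G⁻¹ = G * C⁻¹ * (C * S) * G⁻¹ := by group
    _ = G * C⁻¹ * (S * Z) * Z⁻¹ * C * G⁻¹ := by rw [hcs]; group
    _ = G * C⁻¹ * Z * S * (G * C⁻¹ * Z)⁻¹ := by rw [← hzs']; group

/-- The `PΩ`-, `PSO`- and inner-diagonal classes coincide, and so do the `PO`- and `PGO`-classes. -/
theorem odd_class_fusion (E : Even2 Q) {x : MulAut (Cfsg.POmega F (⇑Q))} (hx : x ∈ Cfsg.pgoAut F (⇑Q)) {r : ℕ}
    (hodd : Odd r) (hr : (r : F) ≠ 0) (hxr : x ^ r = 1) (hx1 : x ≠ 1) :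
    (∀ y, (Cfsg.IsConjUnder (Cfsg.Inn (Cfsg.POmega F (⇑Q))) x y ↔ Cfsg.IsConjUnder (inndiagGroup Q E) x y) ∧
      (Cfsg.IsConjUnder (Cfsg.psoAut F (⇑Q)) x y ↔ Cfsg.IsConjUnder (inndiagGroup Q E) x y)) ∧
    ∀ y, Cfsg.IsConjUnder (Cfsg.poAut F (⇑Q)) x y ↔ Cfsg.IsConjUnder (Cfsg.pgoAut F (⇑Q)) x y := by
  obtain ⟨s, hs, rfl⟩ := exists_lift E hx hodd hxr
  have hs1 : s ≠ 1 := fun e => hx1 (by rw [e, map_one, map_one])
  have key : ∀ y, Cfsg.IsConjUnder (inndiagGroup Q E) (simAut (⇑Q) (isoSim s)) y →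
      Cfsg.IsConjUnder (Cfsg.Inn (Cfsg.POmega F (⇑Q))) (simAut (⇑Q) (isoSim s)) y := by
    rintro y ⟨_, ⟨g, hg, rfl⟩, rfl⟩
    obtain ⟨w, hw, hwe⟩ := exists_inn_conj E hs hodd hr hs1 g hg
    exact ⟨w, hw, hwe⟩
  refine ⟨fun y => ⟨⟨fun ⟨h, hh, e⟩ => ⟨h, psoAut_le_inndiagGroup E (inn_le_psoAut hh), e⟩, key y⟩,
    fun ⟨h, hh, e⟩ => ⟨h, psoAut_le_inndiagGroup E hh, e⟩,
    fun hy => let ⟨h, hh, e⟩ := key y hy; ⟨h, inn_le_psoAut hh, e⟩⟩, fun y => ⟨?_, ?_⟩⟩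
  · rintro ⟨h, hh, e⟩
    rw [poAut_eq] at hh
    obtain ⟨g, -, rfl⟩ := hh
    exact ⟨_, mem_pgoAut_iff.2 ⟨g, rfl⟩, e⟩
  · rintro ⟨h, hh, rfl⟩
    obtain ⟨g, rfl⟩ := mem_pgoAut_iff.1 hh
    obtain ⟨c, hc, hcm, -⟩ := exists_cent_sim E hs hodd hr g
    have hiso : (g * c⁻¹).1 ∈ Cfsg.isometryGroup F (⇑Q) := mem_iso_iff.2 fun v => by
      rw [mult_spec E, map_mul, map_inv, hcm, mul_inv_cancel, Units.val_one, one_mul]
    refine ⟨simAut (⇑Q) (g * c⁻¹), by rw [poAut_eq]; exact ⟨_, hiso, rfl⟩, ?_⟩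
    have hcs : simAut (⇑Q) c * simAut (⇑Q) (isoSim s) = simAut (⇑Q) (isoSim s) * simAut (⇑Q) c := (hc.map _).eq
    rw [map_mul, map_inv]
    generalize simAut (⇑Q) (isoSim s) = S at hcs ⊢
    generalize simAut (⇑Q) c = C at hcs ⊢
    generalize simAut (⇑Q) g = G
    calc G * S * G⁻¹ = G * C⁻¹ * (C * S) * G⁻¹ := by group
      _ = G * C⁻¹ * S * (G * C⁻¹)⁻¹ := by rw [hcs]; group

end CfsgLib.ReflectionsSpinor.OddClass
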