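import Cfsg.Agent.Lib.ReflectionsSpinor.OddClassFlip
import Cfsg.Agent.Lib.Classes.SemisimpleConj
import Cfsg.Agent.Lib.Generators.SemisimpleCentralizer
import Mathlib.FieldTheory.Finite.Basic
import Mathlib.RingTheory.AdjoinRoot

/-!
An isometry of odd order commutes with an isometry of determinant one and nontrivial spinor sign.
-/

set_option autoImplicit false
set_option linter.unusedSectionVars false

open Matrix CfsgLib.OrthGen Module Polynomial

namespace CfsgLib.ReflectionsSpinor.OddClass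

variable {F : Type*} [Field F] {ι : Type} [Fintype ι] [DecidableEq ι] {Q : QuadraticForm F (ι → F)}

set_option quotPrecheck false in
local notation "𝔅" => QuadraticMap.polarBilin Q

/-- The data attached to an isometry of odd order: `T = s + s⁻¹` is self-adjoint and `A = s - s⁻¹` skew. -/
structure Split (Q : QuadraticForm F (ι → F)) (T A : Module.End F (ι → F)) : Prop where
  sa : ∀ u v, QuadraticMap.polarBilin Q (T u) v = QuadraticMap.polarBilin Q u (T v)
  skew : ∀ u v, QuadraticMap.polarBilin Q (A u) v = -QuadraticMap.polarBilin Q u (A v)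
  comm : ∀ v, A (T v) = T (A v)
  sq : ∀ v, A (A v) = T (T v) - (4 : F) • v

theorem commute_aeval_of_commute {R : Type*} [Semiring R] [Algebra F R] {a b : R} (h : Commute a b) (p : F[X]) :
    Commute a (aeval b p) := by
  rw [aeval_eq_sum_range]
  exact Commute.sum_right _ _ _ fun i _ => (h.pow_right i).smul_right _

theorem Split.comm_poly {T A : Module.End F (ι → F)} (S : Split Q T A) (p : F[X]) (v : ι → F) :
    A (aeval T p v) = aeval T p (A v) := by
  have h : Commute A T := LinearMap.ext S.comm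
  exact LinearMap.congr_fun (commute_aeval_of_commute h p).eq v

theorem Split.sa_poly {T A : Module.End F (ι → F)} (S : Split Q T A) (p : F[X]) (u v : ι → F) :
    𝔅 (aeval T p u) v = 𝔅 u (aeval T p v) := by
  induction p using Polynomial.induction_on generalizing u v with
  | C a => simp [Algebra.algebraMap_eq_smul_one]
  | add p q hp hq => simp [map_add, hp, hq]
  | monomial n a ih =>
    have e : ∀ w, aeval T (Polynomial.C a * X ^ (n + 1)) w = aeval T (Polynomial.C a * X ^ n) (T w) := fun w => by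
      rw [pow_succ, ← mul_assoc, map_mul _ _ X, aeval_X]; rfl
    have e' : ∀ w, aeval T (Polynomial.C a * X ^ (n + 1)) w = T (aeval T (Polynomial.C a * X ^ n) w) := fun w => by
      rw [pow_succ', mul_left_comm, map_mul _ X, aeval_X]; rfl
    rw [e, ih, S.sa, ← e']

/-- The orbit of a vector under the polynomials in `T`. -/
noncomputable def cyc (T : Module.End F (ι → F)) (v : ι → F) : Submodule F (ι → F) :=
  LinearMap.range ((LinearMap.applyₗ v).comp (aeval T : F[X] →ₐ[F] Module.End F (ι → F)).toLinearMap)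

theorem mem_cyc {T : Module.End F (ι → F)} {v x : ι → F} : x ∈ cyc T v ↔ ∃ p : F[X], aeval T p v = x := Iff.rfl

theorem Split.cyc_orth {T A : Module.End F (ι → F)} (S : Split Q T A) (h2 : (2 : F) ≠ 0) (v : ι → F) :
    ∀ x ∈ cyc T v, ∀ y ∈ cyc T v, 𝔅 x (A y) = 0 := by
  intro x hx y hy
  obtain ⟨p, rfl⟩ := mem_cyc.1 hx
  obtain ⟨q, rfl⟩ := mem_cyc.1 hy
  rw [S.comm_poly, S.sa_poly, ← Module.End.mul_apply, ← map_mul]
  generalize p * q = r
  have h : 𝔅 v (aeval T r (A v)) = -𝔅 v (aeval T r (A v)) := by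
    conv_lhs => rw [← S.sa_poly, polar_symm, S.skew, S.comm_poly]
  have : (2 : F) * 𝔅 v (aeval T r (A v)) = 0 := by linear_combination h
  exact (mul_eq_zero.1 this).resolve_left h2

variable [Fintype F] [DecidableEq F]

/-- An involution with `-1` on the orbit of `v`, commuting with `T` and anticommuting with `A` on the span of
the orbit and its image. -/
theorem Split.flip_props {T A : Module.End F (ι → F)} (S : Split Q T A) (h2 : (2 : F) ≠ 0) {v : ι → F}
    (hU : (LinearMap.BilinForm.restrict 𝔅 (cyc T v)).Nondegenerate) {h : Cfsg.isometryGroup F (⇑Q)}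
    (hneg : ∀ x ∈ cyc T v, act Q h x = -x)
    (hfix : ∀ y, (∀ x ∈ cyc T v, 𝔅 x y = 0) → act Q h y = y) :
    (∀ x, act Q h (T x) = T (act Q h x)) ∧
      (∀ x ∈ cyc T v ⊔ (cyc T v).map A, act Q h (A x) = -A (act Q h x)) ∧
      (∀ x, (∀ z ∈ cyc T v ⊔ (cyc T v).map A, 𝔅 z x = 0) → act Q h x = x) := by
  have hT : ∀ x ∈ cyc T v, T x ∈ cyc T v := fun x hx => by
    obtain ⟨p, rfl⟩ := mem_cyc.1 hx
    exact mem_cyc.2 ⟨X * p, by simp⟩
  refine ⟨fun x => ?_, fun x hx => ?_, fun x hx => hfix x fun z hz => hx z (Submodule.mem_sup_left hz)⟩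
  · have hc := LinearMap.BilinForm.isCompl_orthogonal_of_restrict_nondegenerate
      (B := 𝔅) (W := cyc T v) (fun a b hab => by rwa [polar_symm]) hU
    have hx : x ∈ cyc T v ⊔ LinearMap.BilinForm.orthogonal 𝔅 (cyc T v) := by
      rw [hc.sup_eq_top]; exact Submodule.mem_top
    obtain ⟨u, hu, y, hy, rfl⟩ := Submodule.mem_sup.1 hx
    have hy' : ∀ z ∈ cyc T v, 𝔅 z y = 0 := hy
    rw [map_add, act_add, act_add, hneg u hu, hneg _ (hT u hu), hfix y hy',
      hfix (T y) (fun z hz => by rw [← S.sa]; exact hy' _ (hT z hz)), map_add, map_neg]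
  · obtain ⟨u, hu, w, hw, rfl⟩ := Submodule.mem_sup.1 hx
    obtain ⟨u', hu', rfl⟩ := hw
    have hAA : A (A u') ∈ cyc T v := by
      rw [S.sq]
      exact sub_mem (hT _ (hT _ hu')) (Submodule.smul_mem _ _ hu')
    have hperp : ∀ y ∈ cyc T v, act Q h (A y) = A y := fun y hy =>
      hfix _ fun z hz => S.cyc_orth h2 v z hz y hy
    rw [map_add, act_add, act_add, hperp u hu, hneg u hu, hperp u' hu', hneg _ hAA, map_add, map_neg, neg_add,
      neg_neg]

/-- The main construction. -/
theorem Split.exists_comm_spin {T A : Module.End F (ι → F)} (S : Split Q T A) (h2 : (2 : F) ≠ 0) {v : ι → F}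
    (hAinj : ∀ x ∈ cyc T v, A (A x) = 0 → x = 0) (hv : v ≠ 0)
    (hirr : ∀ x ∈ cyc T v, x ≠ 0 → v ∈ cyc T x)
    (hU : (LinearMap.BilinForm.restrict 𝔅 (cyc T v)).Nondegenerate) :
    ∃ e : Cfsg.isometryGroup F (⇑Q), Classes.detHom Q e = 1 ∧ spinSign Q 1 e = -1 ∧
      (∀ x, act Q e (T x) = T (act Q e x)) ∧ ∀ x, act Q e (A x) = A (act Q e x) := by
  classical
  set U := cyc T v with hUdef
  have hT : ∀ x ∈ U, T x ∈ U := fun x hx => by
    obtain ⟨p, rfl⟩ := mem_cyc.1 hx
    exact mem_cyc.2 ⟨X * p, by simp⟩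
  have hP : ∀ (p : F[X]), ∀ x ∈ U, aeval T p x ∈ U := fun p x hx => by
    obtain ⟨q, rfl⟩ := mem_cyc.1 hx
    exact mem_cyc.2 ⟨p * q, by simp⟩
  have hvU : v ∈ U := mem_cyc.2 ⟨1, by simp⟩
  set TU : Module.End F U := T.restrict hT with hTU
  have : Nontrivial U := ⟨⟨⟨v, hvU⟩, 0, fun e => hv (congrArg Subtype.val e)⟩⟩
  have hTUp : ∀ (p : F[X]) (x : U), ((aeval TU p x : U) : ι → F) = aeval T p (x : ι → F) := by
    intro p
    induction p using Polynomial.induction_on with
    | C a => intro x; simp [Algebra.algebraMap_eq_smul_one]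
    | add p q hp hq => intro x; simp [map_add, hp, hq]
    | monomial n a ih =>
      intro x
      rw [pow_succ, ← mul_assoc, map_mul _ _ X, map_mul _ _ X, aeval_X, aeval_X, Module.End.mul_apply,
        Module.End.mul_apply, ih]
      rfl
  have hsimple : ∀ W : Submodule F U, (∀ w ∈ W, TU w ∈ W) → W = ⊥ ∨ W = ⊤ := by
    intro W hW
    rcases eq_or_ne W ⊥ with h | h
    · exact Or.inl h
    obtain ⟨x, hx, hx0⟩ := Submodule.exists_mem_ne_zero_of_ne_bot h
    have hPW : ∀ (p : F[X]) (w : U), w ∈ W → aeval TU p w ∈ W := by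
      intro p
      induction p using Polynomial.induction_on with
      | C a => intro w hw; simpa [Algebra.algebraMap_eq_smul_one] using W.smul_mem a hw
      | add p q hp hq => intro w hw; simpa [map_add] using W.add_mem (hp w hw) (hq w hw)
      | monomial n a ih =>
        intro w hw
        rw [pow_succ, ← mul_assoc, map_mul _ _ X, aeval_X]
        exact ih _ (hW w hw)
    refine Or.inr (eq_top_iff.2 fun y _ => ?_)
    obtain ⟨p, hp⟩ := mem_cyc.1 (hirr (x : ι → F) x.2 fun e => hx0 (Subtype.ext e))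
    obtain ⟨q, hq⟩ := mem_cyc.1 y.2
    have : y = aeval TU (q * p) x := Subtype.ext (by rw [hTUp, map_mul, Module.End.mul_apply, hp, hq])
    exact this ▸ hPW _ x hx
  obtain ⟨ε, hε⟩ := exists_nonsquare_of_two (F := F) h2
  obtain ⟨M, hMc, hMd⟩ := Generators.exists_commute_det_of_no_invariant TU hsimple ε
  obtain ⟨q, hq⟩ := mem_cyc.1 (M ⟨v, hvU⟩).2
  have hMq : M = aeval TU q := by
    refine LinearMap.ext fun x => ?_
    obtain ⟨p, hp⟩ := mem_cyc.1 x.2
    have hx : x = aeval TU p ⟨v, hvU⟩ := Subtype.ext (by rw [hTUp]; exact hp.symm)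
    have hM1 : M ⟨v, hvU⟩ = aeval TU q ⟨v, hvU⟩ := Subtype.ext (by rw [hTUp]; exact hq.symm)
    have hcp : Commute M (aeval TU p) := commute_aeval_of_commute hMc p
    rw [hx, ← Module.End.mul_apply, hcp.eq, Module.End.mul_apply, hM1, ← Module.End.mul_apply,
      ← Module.End.mul_apply (f := aeval TU q), ← map_mul, ← map_mul, mul_comm]
  -- the minimal polynomial
  set f := minpoly F TU with hf
  have hfirr : Irreducible f := Generators.irreducible_minpoly_of_no_invariant TU hsimple
  have : Fact (Irreducible f) := ⟨hfirr⟩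
  set K := AdjoinRoot f
  have : Module.Finite F K := (AdjoinRoot.powerBasis hfirr.ne_zero).finite
  have : Finite K := Module.finite_of_finite F
  let : Fintype K := Fintype.ofFinite K
  have hK : ringChar K ≠ 2 := by
    rw [← Algebra.ringChar_eq F K]
    exact fun h => h2 (by have := CharP.cast_eq_zero F (ringChar F); rwa [h, Nat.cast_ofNat] at this)
  have hvanish : ∀ p : F[X], AdjoinRoot.mk f p = 0 ↔ ∀ x ∈ U, aeval T p x = 0 := by
    intro p
    rw [AdjoinRoot.mk_eq_zero, minpoly.dvd_iff]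
    constructor
    · intro h x hx
      rw [← hTUp p ⟨x, hx⟩, h]; rfl
    · intro h
      exact LinearMap.ext fun x => Subtype.ext (by rw [hTUp]; exact h x x.2)
  set D : F[X] := X ^ 2 - Polynomial.C 4 with hD
  have hDv : ∀ x, aeval T D x = A (A x) := fun x => by
    rw [S.sq, hD, map_sub, aeval_C, map_pow, aeval_X, LinearMap.sub_apply, pow_two]
    rfl
  have hD0 : AdjoinRoot.mk f D ≠ 0 := fun h => hAinj v hvU (by rw [← hDv]; exact (hvanish D).1 h v hvU)
    |> fun h' => hv h'
  have hq0 : AdjoinRoot.mk f q ≠ 0 := by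
    intro h
    have : M = 0 := LinearMap.ext fun x => Subtype.ext (by rw [hMq, hTUp, (hvanish q).1 h x x.2]; rfl)
    rw [this, LinearMap.det_zero] at hMd
    refine hε (hMd ▸ ?_)
    rw [zero_pow (Module.finrank_pos (R := F) (M := U)).ne']
    exact IsSquare.zero
  obtain ⟨x₀, y₀, hxy⟩ := FiniteField.exists_root_sum_quadratic
    (f := Polynomial.X ^ 2 - Polynomial.C (AdjoinRoot.mk f q))
    (g := Polynomial.C (-AdjoinRoot.mk f D) * Polynomial.X ^ 2)
    (degree_X_pow_sub_C two_pos _) (degree_C_mul_X_pow _ (neg_ne_zero.2 hD0))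
    (FiniteField.odd_card_of_char_ne_two hK)
  obtain ⟨α, rfl⟩ := AdjoinRoot.mk_surjective x₀
  obtain ⟨β, rfl⟩ := AdjoinRoot.mk_surjective y₀
  set N : F[X] := α ^ 2 - D * β ^ 2 with hN
  have hNq : AdjoinRoot.mk f (N - q) = 0 := by
    simp only [Polynomial.eval_sub, Polynomial.eval_pow, Polynomial.eval_X, Polynomial.eval_C,
      Polynomial.eval_mul] at hxy
    rw [hN, map_sub, map_sub, map_pow, map_mul, map_pow]
    linear_combination hxy
  have hNq' : ∀ x ∈ U, aeval T N x = aeval T q x := fun x hx => by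
    have := (hvanish _).1 hNq x hx
    rwa [map_sub, LinearMap.sub_apply, sub_eq_zero] at this
  set ω : Module.End F (ι → F) := aeval T α + aeval T β * A with hω
  set ω' : Module.End F (ι → F) := aeval T α - aeval T β * A with hω'
  have hωapp : ∀ x, ω x = aeval T α x + aeval T β (A x) := fun x => rfl
  have hω'app : ∀ x, ω' x = aeval T α x - aeval T β (A x) := fun x => rfl
  have hωadj : ∀ x y, 𝔅 (ω x) y = 𝔅 x (ω' y) := fun x y => by
    rw [hωapp, hω'app, map_add, LinearMap.add_apply, map_sub, S.sa_poly, S.sa_poly, S.skew, S.comm_poly]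
    ring
  have hc : ∀ p p' : F[X], ∀ z, aeval T p (aeval T p' z) = aeval T p' (aeval T p z) := fun p p' z => by
    rw [← Module.End.mul_apply, ← map_mul, mul_comm, map_mul, Module.End.mul_apply]
  have hprod : ∀ x, ω' (ω x) = aeval T N x := fun x => by
    have hNx : aeval T N x = aeval T α (aeval T α x) - aeval T D (aeval T β (aeval T β x)) := by
      simp only [hN, pow_two, map_sub, map_mul, LinearMap.sub_apply, Module.End.mul_apply]
    rw [hNx, hω'app, hωapp, map_add, map_add, map_add, S.comm_poly, S.comm_poly, ← hDv, hc β α (A x),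
      hc β D x, hc β D (aeval T β x)]
    abel
  have hωcomm : ∀ p : F[X], ∀ x, aeval T p (ω x) = ω (aeval T p x) := fun p x => by
    rw [hωapp, hωapp, map_add, S.comm_poly, hc p α x, hc p β (A x)]
  have hωA : ∀ x, A (ω x) = ω (A x) := fun x => by
    rw [hωapp, hωapp, map_add, S.comm_poly, S.comm_poly]
  set v' := ω v with hv'
  have hmapU : U.map ω = cyc T v' := by
    ext x
    constructor
    · rintro ⟨y, hy, rfl⟩
      obtain ⟨p, rfl⟩ := mem_cyc.1 hy
      exact mem_cyc.2 ⟨p, hωcomm p v⟩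
    · intro hx
      obtain ⟨p, rfl⟩ := mem_cyc.1 hx
      exact ⟨aeval T p v, hP p v hvU, (hωcomm p v).symm⟩
  set U' := cyc T v' with hU'def
  have hBN : ∀ x ∈ U, ∀ y, 𝔅 (ω x) (ω y) = 𝔅 (aeval T q x) y := fun x hx y => by
    rw [polar_symm, hωadj, hprod, polar_symm, ← hNq' x hx, S.sa_poly]
  obtain ⟨g, hg⟩ : ∃ g : F[X], AdjoinRoot.mk f (g * q - 1) = 0 := by
    obtain ⟨g, hg⟩ := AdjoinRoot.mk_surjective (AdjoinRoot.mk f q)⁻¹
    exact ⟨g, by rw [map_sub, map_mul, hg, map_one, inv_mul_cancel₀ hq0, sub_self]⟩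
  have hginv : ∀ x ∈ U, aeval T g (aeval T q x) = x := fun x hx => by
    have := (hvanish _).1 hg x hx
    rwa [map_sub, map_one, map_mul, LinearMap.sub_apply, Module.End.mul_apply, Module.End.one_apply,
      sub_eq_zero] at this
  have hginv' : ∀ x ∈ U, aeval T q (aeval T g x) = x := fun x hx => by
    rw [← Module.End.mul_apply, ← map_mul, mul_comm, map_mul, Module.End.mul_apply]
    exact hginv x hx
  have hU' : (LinearMap.BilinForm.restrict 𝔅 U').Nondegenerate := by
    have key : ∀ x ∈ U', (∀ y ∈ U', 𝔅 x y = 0) → x = 0 := by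
      intro x hx hxy
      rw [← hmapU] at hx
      obtain ⟨u, hu, rfl⟩ := hx
      have h1 : (⟨aeval T q u, hP q u hu⟩ : U) = 0 := hU.1 _ fun y => by
        show 𝔅 (aeval T q u) (y : ι → F) = 0
        rw [← hBN u hu]
        exact hxy _ (hmapU ▸ ⟨y, y.2, rfl⟩)
      rw [← hginv u hu, show aeval T q u = 0 from congrArg Subtype.val h1, map_zero, map_zero]
    exact ⟨fun x hx => Subtype.ext (key x x.2 fun y hy => hx ⟨y, hy⟩),
      fun x hx => Subtype.ext (key x x.2 fun y hy => (polar_symm _ _).trans (hx ⟨y, hy⟩))⟩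
  obtain ⟨σ, b, hb0, hborth, hσneg, hσfix, hσdet, hσspin⟩ := exists_flip h2 U hU
  obtain ⟨σ', b', hb'0, hb'orth, hσ'neg, hσ'fix, hσ'det, hσ'spin⟩ := exists_flip h2 U' hU'
  obtain ⟨pT, pA, pR⟩ := S.flip_props h2 hU hσneg hσfix
  obtain ⟨pT', pA', pR'⟩ := S.flip_props h2 hU' hσ'neg hσ'fix
  -- the span of the orbit and its image
  set Z := U ⊔ U.map A with hZdef
  have hAZ : ∀ x ∈ Z, A x ∈ Z := by
    intro x hx
    obtain ⟨u, hu, w, ⟨u', hu', rfl⟩, rfl⟩ := Submodule.mem_sup.1 hx
    rw [map_add, show A (A u') = aeval T D u' from (hDv u').symm]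
    exact add_mem (Submodule.mem_sup_right ⟨u, hu, rfl⟩) (Submodule.mem_sup_left (hP D u' hu'))
  have hPZ : ∀ (p : F[X]), ∀ x ∈ Z, aeval T p x ∈ Z := by
    intro p x hx
    obtain ⟨u, hu, w, ⟨u', hu', rfl⟩, rfl⟩ := Submodule.mem_sup.1 hx
    rw [map_add, ← S.comm_poly]
    exact add_mem (Submodule.mem_sup_left (hP p u hu)) (Submodule.mem_sup_right ⟨_, hP p u' hu', rfl⟩)
  have hZ' : U' ⊔ U'.map A = Z := by
    refine le_antisymm (sup_le ?_ ?_) (fun x hx => ?_)
    · rw [← hmapU]
      rintro _ ⟨u, hu, rfl⟩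
      rw [hωapp]
      exact add_mem (Submodule.mem_sup_left (hP α u hu))
        (hPZ β _ (Submodule.mem_sup_right ⟨u, hu, rfl⟩))
    · rw [← hmapU]
      rintro _ ⟨_, ⟨u, hu, rfl⟩, rfl⟩
      refine hAZ _ ?_
      rw [hωapp]
      exact add_mem (Submodule.mem_sup_left (hP α u hu))
        (hPZ β _ (Submodule.mem_sup_right ⟨u, hu, rfl⟩))
    · obtain ⟨u, hu, w, ⟨u', hu', rfl⟩, rfl⟩ := Submodule.mem_sup.1 hx
      -- write an element as `ω` of something
      have key : ∀ u ∈ U, ∃ z ∈ Z, ω z = u := fun u hu =>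
        ⟨ω' (aeval T g u), by
          rw [hω'app]
          exact sub_mem (Submodule.mem_sup_left (hP α _ (hP g u hu)))
            (hPZ β _ (Submodule.mem_sup_right ⟨_, hP g u hu, rfl⟩)), by
          have e : ω (ω' (aeval T g u)) = ω' (ω (aeval T g u)) := by
            simp only [hωapp, hω'app, map_add, map_sub, S.comm_poly]
            rw [hc β α]
            abel
          rw [e, hprod, hNq' _ (hP g u hu), hginv' u hu]⟩
      obtain ⟨z, hz, rfl⟩ := key u hu
      obtain ⟨z', hz', rfl⟩ := key u' hu'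
      rw [hωA, ← map_add]
      have hzz : z + A z' ∈ Z := add_mem hz (hAZ _ hz')
      obtain ⟨a, ha, w', ⟨a', ha', rfl⟩, e⟩ := Submodule.mem_sup.1 hzz
      rw [← e, map_add, ← hωA]
      exact add_mem (Submodule.mem_sup_left (hmapU ▸ ⟨a, ha, rfl⟩))
        (Submodule.mem_sup_right ⟨ω a', hmapU ▸ ⟨a', ha', rfl⟩, rfl⟩)
  have hZmem : ∀ (σ : Cfsg.isometryGroup F (⇑Q)) (W : Submodule F (ι → F)),
      (∀ x ∈ W, act Q σ x = -x) → (∀ y, (∀ x ∈ W, 𝔅 x y = 0) → act Q σ y = y) →
      (∀ x ∈ W, ∀ y ∈ W, 𝔅 x (A y) = 0) → ∀ x ∈ W ⊔ W.map A, act Q σ x ∈ W ⊔ W.map A := by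
    intro σ W hn hfx ho x hx
    obtain ⟨u, hu, w, ⟨u', hu', rfl⟩, rfl⟩ := Submodule.mem_sup.1 hx
    rw [act_add, hn u hu, hfx (A u') fun z hz => ho z hz u' hu']
    exact add_mem (Submodule.mem_sup_left (neg_mem hu)) (Submodule.mem_sup_right ⟨u', hu', rfl⟩)
  have hσZ := hZmem σ U hσneg hσfix (S.cyc_orth h2 v)
  refine ⟨σ' * σ, ?_, ?_, fun x => ?_, fun x => ?_⟩
  · have hk : finrank F U' = finrank F U := by
      rw [← hmapU]
      refine (LinearEquiv.finrank_eq (LinearEquiv.ofBijective (ω.submoduleMap U) ⟨?_, ω.submoduleMap_surjective U⟩)).symm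
      intro a c hac
      have h1 : ω (a : ι → F) = ω c := congrArg Subtype.val hac
      have h3 := congrArg ω' h1
      rw [hprod, hprod, hNq' _ a.2, hNq' _ c.2] at h3
      exact Subtype.ext (by rw [← hginv _ a.2, h3, hginv _ c.2])
    rw [map_mul, hσ'det, hσdet, hk, ← pow_add, Even.neg_one_pow ⟨_, rfl⟩]
  · have hk : finrank F U' = finrank F U := by
      rw [← hmapU]
      refine (LinearEquiv.finrank_eq (LinearEquiv.ofBijective (ω.submoduleMap U) ⟨?_, ω.submoduleMap_surjective U⟩)).symm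
      intro a c hac
      have h1 : ω (a : ι → F) = ω c := congrArg Subtype.val hac
      have h3 := congrArg ω' h1
      rw [hprod, hprod, hNq' _ a.2, hNq' _ c.2] at h3
      exact Subtype.ext (by rw [← hginv _ a.2, h3, hginv _ c.2])
    -- the two Gram determinants
    let ωU : U →ₗ[F] U' := LinearMap.codRestrict U' (ω ∘ₗ U.subtype) fun x => hmapU ▸ ⟨x, x.2, rfl⟩
    have hωUinj : Function.Injective ωU := by
      intro a c hac
      have h1 : ω (a : ι → F) = ω c := congrArg Subtype.val hac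
      have h3 := congrArg ω' h1
      rw [hprod, hprod, hNq' _ a.2, hNq' _ c.2] at h3
      exact Subtype.ext (by rw [← hginv _ a.2, h3, hginv _ c.2])
    set e : U ≃ₗ[F] U' := LinearEquiv.ofInjectiveOfFinrankEq ωU hωUinj hk.symm
    set c : Basis (Fin (finrank F U)) F U' := b.map e
    set bl := LinearMap.BilinForm.restrict 𝔅 U'
    have hcd : LinearMap.BilinForm.toMatrix c bl =
        (LinearMap.toMatrix b b M)ᵀ * Matrix.diagonal fun i => 2 * Q (b i : ι → F) := by
      ext i j
      rw [LinearMap.BilinForm.toMatrix_apply, Matrix.mul_diagonal, Matrix.transpose_apply]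
      show 𝔅 (ω (b i : ι → F)) (ω (b j : ι → F)) = _
      rw [hBN _ (b i).2, ← hTUp q (b i), ← hMq]
      conv_lhs => rw [← b.sum_repr (M (b i))]
      rw [AddSubmonoidClass.coe_finsetSum, map_sum, LinearMap.sum_apply, Finset.sum_eq_single j]
      · rw [SetLike.val_smul, map_smul, LinearMap.smul_apply, polar_self', LinearMap.toMatrix_apply, smul_eq_mul]
      · intro l _ hl
        rw [SetLike.val_smul, map_smul, LinearMap.smul_apply, hborth l j hl, smul_zero]
      · simp
    have hfd : LinearMap.BilinForm.toMatrix b' bl = Matrix.diagonal fun i => 2 * Q (b' i : ι → F) := by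
      ext i j
      rw [LinearMap.BilinForm.toMatrix_apply, Matrix.diagonal_apply]
      split_ifs with hij
      · subst hij; exact polar_self' _
      · exact hb'orth i j hij
    have hchange := LinearMap.BilinForm.toMatrix_mul_basis_toMatrix (b := b') c bl
    have hσidx := b'.indexEquiv c
    have hdet : ∃ δ : F, (LinearMap.BilinForm.toMatrix c bl).det = δ ^ 2 * (LinearMap.BilinForm.toMatrix b' bl).det := by
      set b'' := b'.reindex hσidx
      have h1 := LinearMap.BilinForm.toMatrix_mul_basis_toMatrix (b := b'') c bl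
      refine ⟨(b''.toMatrix c).det, ?_⟩
      rw [← h1, Matrix.det_mul, Matrix.det_mul, Matrix.det_transpose]
      have h3 : LinearMap.BilinForm.toMatrix b'' bl =
          (LinearMap.BilinForm.toMatrix b' bl).submatrix hσidx.symm hσidx.symm := by
        ext i j
        simp [b'', LinearMap.BilinForm.toMatrix_apply]
      rw [h3, Matrix.det_submatrix_equiv_self]
      ring
    obtain ⟨δ, hδ⟩ := hdet
    rw [hcd, hfd, Matrix.det_mul, Matrix.det_transpose, LinearMap.det_toMatrix, hMd, Matrix.det_diagonal,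
      Matrix.det_diagonal, Finset.prod_mul_distrib, Finset.prod_mul_distrib] at hδ
    have hP0 : ∏ i, Q (b i : ι → F) ≠ 0 := Finset.prod_ne_zero_iff.2 fun i _ => hb0 i
    have hP'0 : ∏ i, Q (b' i : ι → F) ≠ 0 := Finset.prod_ne_zero_iff.2 fun i _ => hb'0 i
    have hns : ¬ IsSquare ((∏ i, Q (b' i : ι → F)) * ∏ i, Q (b i : ι → F)) := by
      rintro ⟨t, ht⟩
      apply hε
      simp only [Finset.prod_const, Finset.card_univ, Fintype.card_fin, hk] at hδ
      have hn0 : (2 : F) ^ finrank F U ≠ 0 := pow_ne_zero _ h2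
      refine ⟨δ * t / ∏ i, Q (b i : ι → F), ?_⟩
      field_simp
      apply mul_left_cancel₀ hn0
      linear_combination (∏ i, Q (b i : ι → F)) * hδ + (2 : F) ^ finrank F U * δ ^ 2 * ht
    refine Units.ext ?_
    rw [map_mul, Units.val_mul, hσ'spin, hσspin, show ((-1 : ℤ)) ^ finrank F U' = (-1) ^ finrank F U by rw [hk],
      mul_mul_mul_comm, ← pow_add, Even.neg_one_pow ⟨_, rfl⟩,
      one_mul, ← map_mul, quadraticChar_neg_one_iff_not_isSquare.2 hns]
    rfl
  · rw [act_mul, act_mul, pT, pT']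
  · have hcompl : IsCompl Z (LinearMap.BilinForm.orthogonal 𝔅 Z) := by
      refine LinearMap.BilinForm.isCompl_orthogonal_of_restrict_nondegenerate
        (fun a b hab => by rwa [polar_symm]) ?_
      have key : ∀ x ∈ Z, (∀ y ∈ Z, 𝔅 x y = 0) → x = 0 := by
        intro x hx hxy
        obtain ⟨u, hu, w, ⟨u', hu', rfl⟩, rfl⟩ := Submodule.mem_sup.1 hx
        have h1 : (⟨u, hu⟩ : U) = 0 := hU.1 _ fun y => by
          have := hxy y (Submodule.mem_sup_left y.2)
          rw [map_add, LinearMap.add_apply, polar_symm (A u'), S.cyc_orth h2 v y y.2 u' hu', add_zero] at this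
          exact this
        have h3 : u = 0 := congrArg Subtype.val h1
        subst h3
        have h4 : (⟨aeval T D u', hP D u' hu'⟩ : U) = 0 := hU.1 _ fun y => by
          have := hxy (A y) (Submodule.mem_sup_right ⟨y, y.2, rfl⟩)
          rw [zero_add, S.skew, neg_eq_zero] at this
          show 𝔅 (aeval T D u') (y : ι → F) = 0
          rw [S.sa_poly, hDv]
          exact this
        have h5 : A (A u') = 0 := by rw [← hDv]; exact congrArg Subtype.val h4
        obtain ⟨d, hd⟩ := AdjoinRoot.mk_surjective (AdjoinRoot.mk f D)⁻¹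
        have h6 := (hvanish (d * D - 1)).1 (by rw [map_sub, map_mul, hd, map_one, inv_mul_cancel₀ hD0, sub_self])
          u' hu'
        rw [map_sub, map_one, map_mul, LinearMap.sub_apply, Module.End.mul_apply, Module.End.one_apply, hDv, h5,
          map_zero, zero_sub, neg_eq_zero] at h6
        rw [h6, map_zero, add_zero]
      exact ⟨fun x hx => Subtype.ext (key x x.2 fun y hy => hx ⟨y, hy⟩),
        fun x hx => Subtype.ext (key x x.2 fun y hy => (polar_symm _ _).trans (hx ⟨y, hy⟩))⟩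
    obtain ⟨z, hz, y, hy, rfl⟩ := Submodule.mem_sup.1
      (show x ∈ Z ⊔ LinearMap.BilinForm.orthogonal 𝔅 Z by rw [hcompl.sup_eq_top]; exact Submodule.mem_top)
    have hy' : ∀ t ∈ Z, 𝔅 t y = 0 := hy
    have hAy : ∀ t ∈ Z, 𝔅 t (A y) = 0 := fun t ht => by
      rw [← neg_eq_zero, ← S.skew]; exact hy' _ (hAZ t ht)
    rw [map_add, act_add, act_add, map_add, act_mul, act_mul, act_mul, act_mul, pR y hy', pR (A y) hAy,
      pR' y (hZ' ▸ hy'), pR' (A y) (hZ' ▸ hAy), pA z hz]
    have hneg : ∀ (g : Cfsg.isometryGroup F (⇑Q)) (w : ι → F), act Q g (-w) = -act Q g w := fun g w => by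
      rw [← neg_one_smul F w, act_smul, neg_one_smul]
    rw [hneg, pA' _ (hZ' ▸ hσZ z hz), neg_neg]

end CfsgLib.ReflectionsSpinor.OddClass
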